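import Groth.Prelude.Def_W4c5spincurvestfNode
import Mathlib.RingTheory.AdicCompletion.Basic
import Mathlib.RingTheory.MvPowerSeries.Rename
import Mathlib.RingTheory.LocalRing.MaximalIdeal.Basic

/-!
# Normal form in `R[[x, y]]/(xy - π)`
-/

set_option autoImplicit false

universe u

open MvPowerSeries

noncomputable section

namespace Groth.Agent.NodeNF29

variable {R : Type u} [CommRing R]

/-- Exponent `(a, b)`. -/
def ex (a b : ℕ) : Fin 2 →₀ ℕ := Finsupp.single 0 a + Finsupp.single 1 b

@[simp] theorem ex_zero (a b : ℕ) : ex a b 0 = a := by simp [ex]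
@[simp] theorem ex_one (a b : ℕ) : ex a b 1 = b := by simp [ex]

theorem eq_ex (d : Fin 2 →₀ ℕ) : d = ex (d 0) (d 1) := by
  ext i; fin_cases i <;> simp

theorem coeff_toMv (i j : Fin 2) (hij : i ≠ j) (f : PowerSeries R) (d : Fin 2 →₀ ℕ) :
    coeff d (PowerSeries.toMvPowerSeries (σ := Fin 2) i f) = if d j = 0 then PowerSeries.coeff (d i) f else 0 := by
  rw [PowerSeries.toMvPowerSeries_apply]
  by_cases h : d j = 0
  · rw [if_pos h]
    have hd : d = Finsupp.embDomain ⟨fun _ : Unit => i, fun _ _ _ => rfl⟩ (Finsupp.single () (d i)) := by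
      rw [Finsupp.embDomain_single]
      ext l
      fin_cases i <;> fin_cases j <;> fin_cases l <;> simp_all
    conv_lhs => rw [hd]
    exact coeff_embDomain_rename (⟨fun _ : Unit => i, fun _ _ _ => rfl⟩ : Unit ↪ Fin 2) f _
  · rw [if_neg h]
    refine coeff_rename_eq_zero _ f ?_
    rintro ⟨x, hx⟩
    refine h ?_
    rw [← hx]
    refine Finsupp.mapDomain_notin_range _ _ ?_
    rintro ⟨_, hl⟩
    exact hij hl

theorem coeff_rel_mul (π : R) (D : MvPowerSeries (Fin 2) R) (a b : ℕ) :
    coeff (ex a b) ((X 0 * X 1 - C π) * D) =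
      (if 1 ≤ a ∧ 1 ≤ b then coeff (ex (a - 1) (b - 1)) D else 0) - π * coeff (ex a b) D := by
  classical
  have hmono : (X 0 * X 1 : MvPowerSeries (Fin 2) R) = monomial (ex 1 1) 1 := by
    rw [X, X, monomial_mul_monomial, one_mul]; rfl
  rw [sub_mul, map_sub, coeff_C_mul, hmono, coeff_monomial_mul, one_mul]
  congr 1
  by_cases h : 1 ≤ a ∧ 1 ≤ b
  · have hle : ex 1 1 ≤ ex a b := fun i => by fin_cases i <;> simp [h.1, h.2]
    rw [if_pos h, if_pos hle]
    congr 2
    ext i
    fin_cases i <;> simp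
  · have hle : ¬ ex 1 1 ≤ ex a b := fun hc => h ⟨by simpa using hc 0, by simpa using hc 1⟩
    rw [if_neg h, if_neg hle]

theorem coeff_ex_X_mul (D : MvPowerSeries (Fin 2) R) (a b : ℕ) :
    coeff (ex a b) (X 1 * D) = if 1 ≤ b then coeff (ex a (b - 1)) D else 0 := by
  classical
  rw [X, coeff_monomial_mul, one_mul]
  by_cases h : 1 ≤ b
  · have hle : Finsupp.single (1 : Fin 2) 1 ≤ ex a b := fun l => by fin_cases l <;> simp [h]
    rw [if_pos h, if_pos hle]
    congr 2
    ext l; fin_cases l <;> simp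
  · rw [if_neg h, if_neg (fun hc => h (by simpa using hc 1))]

variable [IsLocalRing R] [IsAdicComplete (IsLocalRing.maximalIdeal R) R] {π : R}
  (hπ : π ∈ IsLocalRing.maximalIdeal R)

include hπ in
theorem mem_pow (n : ℕ) (r : R) : π ^ n * r ∈ (IsLocalRing.maximalIdeal R ^ n • ⊤ : Submodule R R) := by
  rw [smul_eq_mul, Ideal.mul_top]
  exact Ideal.mul_mem_right _ _ (Ideal.pow_mem_pow hπ n)

include hπ in
theorem eq_zero_of_forall_pow (x : R) (h : ∀ n, ∃ r, x = π ^ n * r) : x = 0 := by
  refine IsHausdorff.haus (I := IsLocalRing.maximalIdeal R) inferInstance x fun n => ?_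
  obtain ⟨r, rfl⟩ := h n
  rw [SModEq.sub_mem, sub_zero]
  exact mem_pow hπ n r

include hπ in
theorem exists_series (c : ℕ → R) :
    ∃ L : R, ∀ n, L - ∑ t ∈ Finset.range n, π ^ t * c t ∈ (IsLocalRing.maximalIdeal R ^ n • ⊤ : Submodule R R) := by
  obtain ⟨L, hL⟩ := IsPrecomplete.prec (I := IsLocalRing.maximalIdeal R) inferInstance
    (f := fun n => ∑ t ∈ Finset.range n, π ^ t * c t) (fun {m n} hmn => by
      rw [SModEq.sub_mem, ← Finset.sum_range_add_sum_Ico _ hmn]
      simp only [sub_add_cancel_left, neg_mem_iff]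
      refine Submodule.sum_mem _ fun t ht => ?_
      rw [show π ^ t * c t = π ^ m * (π ^ (t - m) * c t) by
        rw [← mul_assoc, ← pow_add, Nat.add_sub_cancel' (Finset.mem_Ico.1 ht).1]]
      exact mem_pow hπ m _)
  refine ⟨L, fun n => ?_⟩
  rw [← neg_mem_iff, neg_sub]
  exact SModEq.sub_mem.1 (hL n)

/-- `∑ π^t c_t`. -/
def S (c : ℕ → R) : R := (exists_series hπ c).choose

include hπ in
theorem S_succ (c : ℕ → R) : S hπ c = c 0 + π * S hπ (fun t => c (t + 1)) := by
  rw [← sub_eq_zero]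
  refine IsHausdorff.haus (I := IsLocalRing.maximalIdeal R) inferInstance _ fun n => ?_
  rw [SModEq.sub_mem, sub_zero]
  have h1 := (exists_series hπ c).choose_spec (n + 1)
  have h2 := (exists_series hπ (fun t => c (t + 1))).choose_spec n
  rw [Finset.sum_range_succ'] at h1
  have hle : (IsLocalRing.maximalIdeal R ^ (n + 1) • ⊤ : Submodule R R) ≤ IsLocalRing.maximalIdeal R ^ n • ⊤ :=
    Submodule.smul_mono_left (Ideal.pow_le_pow_right (Nat.le_succ n))
  have h3 := sub_mem (hle h1) (Submodule.smul_mem _ π h2)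
  convert h3 using 1
  show S hπ c - (c 0 + π * S hπ _) = _
  simp only [S, smul_eq_mul, mul_sub, Finset.mul_sum, pow_zero, one_mul]
  rw [show ∑ t ∈ Finset.range n, π * (π ^ t * c (t + 1)) = ∑ t ∈ Finset.range n, π ^ (t + 1) * c (t + 1) from
    Finset.sum_congr rfl fun t _ => by ring]
  abel

include hπ in
/-- Every element is `a(x) + y b(y)`. -/
theorem exists_normalForm (f : SpinCurv.NodeRing R π) :
    ∃ a b : PowerSeries R, f = SpinCurv.NodeRing.ofX R π a + SpinCurv.NodeRing.y R π * SpinCurv.NodeRing.ofY R π b := by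
  obtain ⟨f, rfl⟩ := Ideal.Quotient.mk_surjective f
  let a : PowerSeries R := PowerSeries.mk fun n => S hπ fun t => coeff (ex (n + t) t) f
  let b : PowerSeries R := PowerSeries.mk fun n => S hπ fun t => coeff (ex t (n + 1 + t)) f
  let D : MvPowerSeries (Fin 2) R := fun d => S hπ fun t => coeff (ex (d 0 + 1 + t) (d 1 + 1 + t)) f
  have hD : ∀ i j, coeff (ex i j) D = S hπ fun t => coeff (ex (i + 1 + t) (j + 1 + t)) f := fun i j => by
    show S hπ (fun t => coeff (ex (ex i j 0 + 1 + t) (ex i j 1 + 1 + t)) f) = _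
    simp only [ex_zero, ex_one]
  refine ⟨a, b, ?_⟩
  rw [SpinCurv.NodeRing.y, SpinCurv.NodeRing.ofX, SpinCurv.NodeRing.ofY, ← map_mul, ← map_add, Ideal.Quotient.eq,
    Ideal.mem_span_singleton']
  refine ⟨D, ?_⟩
  rw [mul_comm]
  refine MvPowerSeries.ext fun d => ?_
  rw [eq_ex d]
  generalize d 0 = i
  generalize d 1 = j
  rw [coeff_rel_mul, map_sub, map_add, coeff_toMv 0 1 (by decide), coeff_ex_X_mul]
  simp only [hD]
  simp only [ex_zero, ex_one, a, b, PowerSeries.coeff_mk]
  rcases Nat.eq_zero_or_pos j with rfl | hj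
  · rw [if_neg (by omega), if_pos rfl, if_neg (by omega), add_zero, zero_sub, S_succ hπ (fun t => coeff (ex (i + t) t) f)]
    simp only [add_zero]
    rw [show (fun t => coeff (ex (i + (t + 1)) (t + 1)) f) = fun t => coeff (ex (i + 1 + t) (0 + 1 + t)) f from
      funext fun t => by rw [show i + (t + 1) = i + 1 + t by omega, show t + 1 = 0 + 1 + t by omega]]
    ring
  · rw [if_neg (by omega : ¬ j = 0), if_pos (by omega : 1 ≤ j), zero_add, coeff_toMv 1 0 (by decide)]
    simp only [ex_zero, ex_one]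
    rcases Nat.eq_zero_or_pos i with rfl | hi
    · rw [if_neg (by omega), if_pos rfl, PowerSeries.coeff_mk, zero_sub, S_succ hπ (fun t => coeff (ex t (j - 1 + 1 + t)) f)]
      simp only [add_zero]
      rw [show j - 1 + 1 = j by omega,
        show (fun t => coeff (ex (t + 1) (j + (t + 1))) f) = fun t => coeff (ex (0 + 1 + t) (j + 1 + t)) f from
        funext fun t => by rw [show t + 1 = 0 + 1 + t by omega, show j + (0 + 1 + t) = j + 1 + t by omega]]
      ring
    · rw [if_pos ⟨hi, hj⟩, if_neg (by omega), sub_zero,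
        S_succ hπ (fun t => coeff (ex (i - 1 + 1 + t) (j - 1 + 1 + t)) f)]
      simp only [add_zero]
      rw [show i - 1 + 1 = i by omega, show j - 1 + 1 = j by omega,
        show (fun t => coeff (ex (i + (t + 1)) (j + (t + 1))) f) = fun t => coeff (ex (i + 1 + t) (j + 1 + t)) f from
        funext fun t => by rw [show i + (t + 1) = i + 1 + t by omega, show j + (t + 1) = j + 1 + t by omega]]
      ring

include hπ in
/-- The normal form is unique. -/
theorem normalForm_eq_zero {a b : PowerSeries R}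
    (h : SpinCurv.NodeRing.ofX R π a + SpinCurv.NodeRing.y R π * SpinCurv.NodeRing.ofY R π b = 0) :
    a = 0 ∧ b = 0 := by
  rw [SpinCurv.NodeRing.y, SpinCurv.NodeRing.ofX, SpinCurv.NodeRing.ofY, ← map_mul, ← map_add,
    Ideal.Quotient.eq_zero_iff_mem, Ideal.mem_span_singleton'] at h
  obtain ⟨D, hD⟩ := h
  rw [mul_comm] at hD
  have key : ∀ i j, (if 1 ≤ i ∧ 1 ≤ j then coeff (ex (i - 1) (j - 1)) D else 0) - π * coeff (ex i j) D =
      (if j = 0 then PowerSeries.coeff i a else 0) +
        if 1 ≤ j then (if i = 0 then PowerSeries.coeff (j - 1) b else 0) else 0 := fun i j => by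
    rw [← coeff_rel_mul, hD, map_add, coeff_toMv 0 1 (by decide), coeff_ex_X_mul,
      coeff_toMv 1 0 (by decide)]
    simp only [ex_zero, ex_one]
  have hD0 : ∀ i j, coeff (ex i j) D = 0 := by
    intro i j
    refine eq_zero_of_forall_pow hπ _ fun n => ⟨coeff (ex (i + n) (j + n)) D, ?_⟩
    induction n with
    | zero => simp
    | succ n ih =>
      have h1 := key (i + (n + 1)) (j + (n + 1))
      rw [if_pos ⟨by omega, by omega⟩, if_neg (by omega : ¬ j + (n + 1) = 0), if_pos (by omega : 1 ≤ j + (n + 1)),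
        if_neg (by omega : ¬ i + (n + 1) = 0), add_zero, sub_eq_zero, show i + (n + 1) - 1 = i + n by omega,
        show j + (n + 1) - 1 = j + n by omega] at h1
      rw [ih, h1, pow_succ, mul_assoc]
  constructor
  · refine PowerSeries.ext fun n => ?_
    have h1 := key n 0
    rw [hD0 n 0, if_neg (by omega), if_pos rfl, if_neg (by omega)] at h1
    simpa using h1.symm
  · refine PowerSeries.ext fun n => ?_
    have h1 := key 0 (n + 1)
    rw [hD0 0 (n + 1), if_neg (by omega), if_neg (by omega : ¬ n + 1 = 0), if_pos (by omega : 1 ≤ n + 1), if_pos rfl] at h1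
    simpa using h1.symm

theorem exists_split (c : PowerSeries R) : ∃ c' : PowerSeries R,
    c = PowerSeries.C (PowerSeries.constantCoeff c) + PowerSeries.X * c' :=
  ⟨_, by conv_lhs => rw [PowerSeries.eq_X_mul_shift_add_const c, add_comm]⟩

include hπ in
/-- The normal form the other way round. -/
theorem exists_normalForm' (f : SpinCurv.NodeRing R π) :
    ∃ a b : PowerSeries R, f = SpinCurv.NodeRing.ofY R π a + SpinCurv.NodeRing.x R π * SpinCurv.NodeRing.ofX R π b := by
  obtain ⟨c, e, rfl⟩ := exists_normalForm hπ f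
  obtain ⟨c', hc⟩ := exists_split c
  refine ⟨PowerSeries.C (PowerSeries.constantCoeff c) + PowerSeries.X * e, c', ?_⟩
  conv_lhs => rw [hc]
  simp only [SpinCurv.NodeRing.ofX, SpinCurv.NodeRing.ofY, SpinCurv.NodeRing.x, SpinCurv.NodeRing.y, map_add, map_mul,
    PowerSeries.toMvPowerSeries_C, PowerSeries.toMvPowerSeries_X]
  ring

omit [IsLocalRing R] in
theorem nodeAlpha_mulVec {p q : R} (a b : SpinCurv.NodeRing R (p * q)) :
    Matrix.mulVec (SpinCurv.nodeAlpha R p q) ![a, b] =
      ![SpinCurv.NodeRing.x R (p * q) * a + algebraMap R _ p * b,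
        algebraMap R _ q * a + SpinCurv.NodeRing.y R (p * q) * b] := by
  ext i
  fin_cases i <;> simp [SpinCurv.nodeAlpha, Matrix.mulVec, dotProduct, Fin.sum_univ_two]

variable {p q : R} (hpq : p * q ∈ IsLocalRing.maximalIdeal R)

include hpq in
theorem inj_pair {f g : PowerSeries R}
    (h0 : SpinCurv.NodeRing.x R (p * q) * SpinCurv.NodeRing.ofX R (p * q) f +
      algebraMap R _ p * SpinCurv.NodeRing.ofY R (p * q) g = 0)
    (h1 : algebraMap R _ q * SpinCurv.NodeRing.ofX R (p * q) f +
      SpinCurv.NodeRing.y R (p * q) * SpinCurv.NodeRing.ofY R (p * q) g = 0) : f = 0 ∧ g = 0 := by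
  have halg : ∀ r : R, algebraMap R (SpinCurv.NodeRing R (p * q)) r = Ideal.Quotient.mk _ (C r) := fun r => rfl
  obtain ⟨g', hg⟩ := exists_split g
  have e0 : SpinCurv.NodeRing.ofX R (p * q) (PowerSeries.X * f + PowerSeries.C (p * PowerSeries.constantCoeff g)) +
      SpinCurv.NodeRing.y R (p * q) * SpinCurv.NodeRing.ofY R (p * q) (PowerSeries.C p * g') = 0 := by
    rw [← h0]
    conv_rhs => rw [hg]
    simp only [halg, SpinCurv.NodeRing.ofX, SpinCurv.NodeRing.ofY, SpinCurv.NodeRing.x, SpinCurv.NodeRing.y, map_add,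
      map_mul, PowerSeries.toMvPowerSeries_C, PowerSeries.toMvPowerSeries_X]
    ring
  have hf : f = 0 := PowerSeries.ext fun n => by
    have h := congrArg (PowerSeries.coeff (n + 1)) (normalForm_eq_zero hpq e0).1
    simpa [PowerSeries.coeff_succ_X_mul, PowerSeries.coeff_C] using h
  subst hf
  refine ⟨rfl, (normalForm_eq_zero hpq (a := 0) ?_).2⟩
  rw [← h1]
  simp [SpinCurv.NodeRing.ofX]

omit [IsLocalRing R] in
theorem reduce (a1 a2 b1 b2 : PowerSeries R) :
    ![SpinCurv.NodeRing.ofX R (p * q) a1 + SpinCurv.NodeRing.y R (p * q) * SpinCurv.NodeRing.ofY R (p * q) a2,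
      SpinCurv.NodeRing.ofY R (p * q) b1 + SpinCurv.NodeRing.x R (p * q) * SpinCurv.NodeRing.ofX R (p * q) b2] =
    ![SpinCurv.NodeRing.ofX R (p * q) (a1 + PowerSeries.C p * b2), SpinCurv.NodeRing.ofY R (p * q) (b1 + PowerSeries.C q * a2)] +
      (SpinCurv.NodeRing.ofY R (p * q) a2) •
        ![SpinCurv.NodeRing.y R (p * q), -algebraMap R (SpinCurv.NodeRing R (p * q)) q] +
      (-SpinCurv.NodeRing.ofX R (p * q) b2) •
        ![algebraMap R (SpinCurv.NodeRing R (p * q)) p, -SpinCurv.NodeRing.x R (p * q)] := by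
  have halg : ∀ r : R, algebraMap R (SpinCurv.NodeRing R (p * q)) r = Ideal.Quotient.mk _ (C r) := fun r => rfl
  ext i
  fin_cases i <;>
  · simp only [halg, SpinCurv.NodeRing.ofX, SpinCurv.NodeRing.ofY, map_add, map_mul, PowerSeries.toMvPowerSeries_C,
      Pi.add_apply, Pi.smul_apply, smul_eq_mul, Fin.zero_eta, Fin.mk_one, Matrix.cons_val_zero, Matrix.cons_val_one,
      Matrix.cons_val_fin_one]
    ring

omit [IsLocalRing R] in
theorem alpha_gen :
    Matrix.mulVec (SpinCurv.nodeAlpha R p q)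
        ![algebraMap R (SpinCurv.NodeRing R (p * q)) p, -SpinCurv.NodeRing.x R (p * q)] = 0 ∧
      Matrix.mulVec (SpinCurv.nodeAlpha R p q)
        ![SpinCurv.NodeRing.y R (p * q), -algebraMap R (SpinCurv.NodeRing R (p * q)) q] = 0 := by
  have hxy : SpinCurv.NodeRing.x R (p * q) * SpinCurv.NodeRing.y R (p * q) =
      algebraMap R (SpinCurv.NodeRing R (p * q)) p * algebraMap R _ q := by
    rw [← map_mul (algebraMap R (SpinCurv.NodeRing R (p * q)))]
    show Ideal.Quotient.mk _ (X 0) * Ideal.Quotient.mk _ (X 1) = _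
    rw [← map_mul,
      show algebraMap R (SpinCurv.NodeRing R (p * q)) (p * q) = Ideal.Quotient.mk _ (C (p * q)) from rfl, Ideal.Quotient.eq]
    exact Ideal.mem_span_singleton_self _
  constructor <;> rw [nodeAlpha_mulVec] <;> ext i <;> fin_cases i <;>
    simp only [Pi.zero_apply, Fin.zero_eta, Fin.mk_one, Matrix.cons_val_zero, Matrix.cons_val_one,
      Matrix.cons_val_fin_one]
  · ring
  · linear_combination -hxy
  · linear_combination hxy
  · ring

end Groth.Agent.NodeNF29
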